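import Cfsg.Agent.Lib.GWConsumers31.CentralizerQuotient

/-!
The statements S1216 and S1240, given the Gorenstein-Walter theorem.
-/

set_option autoImplicit false

namespace Cfsg.Agent.Lib.GWConsumers31

universe u

/-- S1216 from Gorenstein-Walter. -/
theorem normal_SL2_of_gw (hGW : GWConsumers12.GWPerfect.{u}) {H : Type u} [Group H] [Finite H]
    (S : Sylow 2 H)
    (hS : Cfsg.IsQuasiDihedral (S : Subgroup H) ∨ Cfsg.IsWreathed (S : Subgroup H))
    (hO : Cfsg.oddCore H = ⊥)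
    (hQ : (∃ K : Subgroup H, K.Normal ∧ (∃ a : ℕ, K.index = 2 ^ a) ∧
        (∀ M : Subgroup ↥K, M.index ≠ 2) ∧
        (∀ P : Sylow 2 ↥K, ∃ m : ℕ, 1 ≤ m ∧
          Nonempty ((P : Subgroup ↥K) ≃* QuaternionGroup (2 ^ m)))) ∧
      (∀ Z₀ : Subgroup H,
        Z₀ ≤ ((Subgroup.center (S : Subgroup H)).map (S : Subgroup H).subtype) →
        Cfsg.IsWeaklyClosed Z₀ (S : Subgroup H))) :
    ∃ L₀ : Subgroup H, L₀.Normal ∧
      (∃ (F : Type) (_ : Field F) (_ : Fintype F), Odd (Fintype.card F) ∧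
        Nonempty (L₀ ≃* Matrix.SpecialLinearGroup (Fin 2) F)) ∧
      ∀ L₁ : Subgroup H, L₁.Normal →
        (∃ (F : Type) (_ : Field F) (_ : Fintype F), Odd (Fintype.card F) ∧
          Nonempty (L₁ ≃* Matrix.SpecialLinearGroup (Fin 2) F)) → L₁ = L₀ := by
  obtain ⟨F, i1, i2, hodd, he, hu⟩ := exists_unique_normal_SL2 hGW S hS hO hQ
  exact ⟨commutator H, inferInstance, ⟨F, i1, i2, hodd, he⟩, hu⟩

/-- S1240 from Gorenstein-Walter. -/
theorem commutator_SL2_of_gw (hGW : GWConsumers12.GWPerfect.{u}) {G : Type u} [Group G] [Finite G]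
    (S : Sylow 2 G)
    (hS : Cfsg.IsQuasiDihedral (S : Subgroup G) ∨ Cfsg.IsWreathed (S : Subgroup G))
    (hG : ∀ H : Subgroup G, H.index ≠ 2) (t : G) (ht : orderOf t = 2) :
    ∃ (F : Type) (_ : Field F) (_ : Fintype F), Odd (Fintype.card F) ∧
      Nonempty (↥(commutator (↥(Subgroup.centralizer ({t} : Set G)) ⧸
        Cfsg.oddCore ↥(Subgroup.centralizer ({t} : Set G)))) ≃*
        Matrix.SpecialLinearGroup (Fin 2) F) := by
  obtain ⟨F, i1, i2, hodd, he, -⟩ := commutator_centralizer_quotient hGW S hS hG t ht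
  exact ⟨F, i1, i2, hodd, he⟩

end Cfsg.Agent.Lib.GWConsumers31
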